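import Groth.Agent.Coherent.K791.FBC0
import Groth.Agent.EGA2.K40.UnivLoc
import Groth.Prelude.Def_CohBC2

/-!
# Base change of a direct image can be checked after base change to open charts
-/

set_option autoImplicit false
universe u

open CategoryTheory CategoryTheory.Limits AlgebraicGeometry Opposite TopologicalSpace
open AlgebraicGeometry.Scheme.Modules

noncomputable section

namespace K598.BcLoc

open Groth.Agent.CohqA.PullbackUniv Groth.Agent.CohqA.PullbackSections Groth.Agent.CohqA.PullbackAffine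
  Groth.Agent.CohqA.PullbackQCoh Groth.Agent.CohqA.AffineBaseChange

section paste

variable {P P' S S' X X' Y Y' : Scheme.{u}} {p : P ⟶ S} {g : S' ⟶ S} {h : P' ⟶ P} {p' : P' ⟶ S'}
  (w1 : h ≫ p = p' ≫ g) {j : X ⟶ P} {q : X ⟶ Y} {f : Y ⟶ S} (w2 : j ≫ p = q ≫ f)
  {Φ : X' ⟶ X} {q' : X' ⟶ Y'} {s : Y' ⟶ Y} (w3 : Φ ≫ q = q' ≫ s) {j' : X' ⟶ P'} {f' : Y' ⟶ S'}
  (w4 : j' ≫ p' = q' ≫ f') (eP : j' ≫ h = Φ ≫ j) (eS : f' ≫ g = s ≫ f)
  {G : P.Modules} {H : P'.Modules} {T : X.Modules} {T' : X'.Modules}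
  (a : G ⟶ (pushforward h).obj H) (c : H ⟶ (pushforward j').obj T')
  (k : G ⟶ (pushforward j).obj T) (b : T ⟶ (pushforward Φ).obj T')

theorem paste (hc : compMap a c = compMap k b ≫ (pushforwardCongr eP.symm).hom.app T') :
    compMap (pushSquare p g h p' w1 a) (pushSquare p' f' j' q' w4 c) =
      compMap (pushSquare p f j q w2 k) (pushSquare q s Φ q' w3 b) ≫
        (pushforwardCongr eS.symm).hom.app ((pushforward q').obj T') := by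
  ext U x
  have h1 : c.app (h ⁻¹ᵁ (p ⁻¹ᵁ U)) (a.app (p ⁻¹ᵁ U) x) = T'.presheaf.map (homOfLE (show
      j' ⁻¹ᵁ (h ⁻¹ᵁ (p ⁻¹ᵁ U)) ≤ Φ ⁻¹ᵁ (j ⁻¹ᵁ (p ⁻¹ᵁ U)) by
        rw [← Scheme.Hom.comp_preimage, eP, Scheme.Hom.comp_preimage])).op
          (b.app (j ⁻¹ᵁ (p ⁻¹ᵁ U)) (k.app (p ⁻¹ᵁ U) x)) := congr(($hc).app (p ⁻¹ᵁ U) x)
  have e0 : p' ⁻¹ᵁ (g ⁻¹ᵁ U) ≤ h ⁻¹ᵁ (p ⁻¹ᵁ U) := preimage_le w1 U (g ⁻¹ᵁ U) le_rfl
  have e1 : q' ⁻¹ᵁ (f' ⁻¹ᵁ (g ⁻¹ᵁ U)) ≤ j' ⁻¹ᵁ (p' ⁻¹ᵁ (g ⁻¹ᵁ U)) := preimage_le w4 _ _ le_rfl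
  have e2 : q ⁻¹ᵁ (f ⁻¹ᵁ U) ≤ j ⁻¹ᵁ (p ⁻¹ᵁ U) := preimage_le w2 U (f ⁻¹ᵁ U) le_rfl
  have e3 : q' ⁻¹ᵁ (s ⁻¹ᵁ (f ⁻¹ᵁ U)) ≤ Φ ⁻¹ᵁ (q ⁻¹ᵁ (f ⁻¹ᵁ U)) := preimage_le w3 _ _ le_rfl
  have e4 : q' ⁻¹ᵁ (f' ⁻¹ᵁ (g ⁻¹ᵁ U)) ≤ q' ⁻¹ᵁ (s ⁻¹ᵁ (f ⁻¹ᵁ U)) := by
    rw [← Scheme.Hom.comp_preimage f' g, eS, Scheme.Hom.comp_preimage]
  have hL : (compMap (pushSquare p g h p' w1 a) (pushSquare p' f' j' q' w4 c)).app U x =
      T'.presheaf.map (homOfLE e1).op (c.app (p' ⁻¹ᵁ (g ⁻¹ᵁ U)) (H.presheaf.map (homOfLE e0).op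
        (a.app (p ⁻¹ᵁ U) x))) := rfl
  have hR : (compMap (pushSquare p f j q w2 k) (pushSquare q s Φ q' w3 b) ≫
        (pushforwardCongr eS.symm).hom.app ((pushforward q').obj T')).app U x =
      T'.presheaf.map (homOfLE e4).op (T'.presheaf.map (homOfLE e3).op (b.app (q ⁻¹ᵁ (f ⁻¹ᵁ U))
        (T.presheaf.map (homOfLE e2).op (k.app (p ⁻¹ᵁ U) x)))) := rfl
  refine hL.trans (Eq.trans ?_ hR.symm)
  rw [app_map c e0, app_map b e2, h1]
  refine (map_map' T' e1 (j'.preimage_mono e0) _).trans ?_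
  refine (map_map' T' _ _ _).trans ?_
  refine Eq.trans ?_ (congrArg (T'.presheaf.map (homOfLE e4).op) (map_map' T' e3 (Φ.preimage_mono e2) _).symm)
  exact (map_map' T' _ _ _).symm

end paste

variable {P P' S S' : Scheme.{u}} {p : P ⟶ S} {g : S' ⟶ S} {h : P' ⟶ P} {p' : P' ⟶ S'}

/-- A chart on which the direct image commutes with base change. -/
structure Chart (p : P ⟶ S) (g : S' ⟶ S) (G : P.Modules) (y : S') where
  {Y Y' X X' : Scheme.{u}}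
  f : Y ⟶ S
  f' : Y' ⟶ S'
  s : Y' ⟶ Y
  eS : f' ≫ g = s ≫ f
  hf : IsOpenImmersion f
  hf' : IsOpenImmersion f'
  j : X ⟶ P
  q : X ⟶ Y
  sq : IsPullback j q p f
  Φ : X' ⟶ X
  q' : X' ⟶ Y'
  sq' : IsPullback Φ q' q s
  T : X.Modules
  k : G ⟶ (pushforward j).obj T
  hk : IsUniv j k
  T' : X'.Modules
  b : T ⟶ (pushforward Φ).obj T'
  hb : IsUniv Φ b
  hy : y ∈ f'.opensRange
  univ : IsUniv s (pushSquare q s Φ q' sq'.w b)

/-- The base change morphism is an isomorphism if it is one on charts. -/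
theorem isUniv_of_charts (sq : IsPullback h p' p g) [QuasiCompact p] [QuasiSeparated p] {G : P.Modules}
    (hG : Coh.IsQCoh G) (C : ∀ y : S', Chart p g G y) :
    IsUniv g (pushSquare p g h p' sq.w (pbUnit h G)) := by
  have hqc : QuasiCompact p' := MorphismProperty.of_isPullback sq ‹_›
  have hqs : QuasiSeparated p' := MorphismProperty.of_isPullback sq ‹_›
  have hG' : Coh.IsQCoh ((Scheme.Modules.pullback h).obj G) :=
    isQuasicoherent_of_isUniv h (pbUnit h G) (isUniv_pbUnit h G)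
  have := fun y => (C y).hf
  have := fun y => (C y).hf'
  have hout : ∀ y, IsPullback ((C y).Φ ≫ (C y).j) (C y).q' p ((C y).s ≫ (C y).f) := fun y =>
    (C y).sq'.paste_horiz (C y).sq
  let j' : ∀ y, (C y).X' ⟶ P' := fun y => sq.lift ((C y).Φ ≫ (C y).j) ((C y).q' ≫ (C y).f') (by
    rw [(hout y).w, Category.assoc, (C y).eS])
  have hj1 : ∀ y, j' y ≫ h = (C y).Φ ≫ (C y).j := fun y => sq.lift_fst _ _ _
  have hj2 : ∀ y, j' y ≫ p' = (C y).q' ≫ (C y).f' := fun y => sq.lift_snd _ _ _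
  have sq'' : ∀ y, IsPullback (j' y) (C y).q' p' (C y).f' := fun y => by
    refine IsPullback.of_right (h₁₂ := h) (v₁₃ := p) (h₂₂ := g) ?_ (hj2 y) sq
    rw [hj1, (C y).eS]
    exact hout y
  have hc : ∀ y, ∃ c : (Scheme.Modules.pullback h).obj G ⟶ (pushforward (j' y)).obj (C y).T',
      compMap (pbUnit h G) c = compMap (C y).k (C y).b ≫ (pushforwardCongr (hj1 y).symm).hom.app (C y).T' :=
    fun y => (bijective_compMap (j' y) (pbUnit h G) (isUniv_pbUnit h G) (C y).T').2 _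
  choose c hc using hc
  have hcu : ∀ y, IsUniv (j' y) (c y) := fun y => by
    rw [← isUniv_compMap_iff (isUniv_pbUnit h G), hc, isUniv_congr]
    exact (C y).hk.comp (C y).hb
  refine K40.UnivLoc.isUniv_of_cover g _ (fun y => (C y).f') (fun y => ⟨y, (C y).hy⟩)
    (fun y => pushSquare p' (C y).f' (j' y) (C y).q' (sq'' y).w (c y)) (fun y => ?_) (fun y => ?_)
  · exact Groth.Agent.Coherent.K791.FBC0.isUniv_pushSquare_flat (sq'' y) hG' (c y) (hcu y)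
  · rw [paste sq.w (C y).sq.w (C y).sq'.w (sq'' y).w (hj1 y) (C y).eS _ _ _ _ (hc y), isUniv_congr]
    exact (Groth.Agent.Coherent.K791.FBC0.isUniv_pushSquare_flat (C y).sq hG (C y).k (C y).hk).comp (C y).univ

/-- The canonical base change morphism `bc0` is an isomorphism if it is one on charts. -/
theorem isIso_bc0_of_charts (sq : IsPullback h p' p g) [QuasiCompact p] [QuasiSeparated p] {G : P.Modules}
    (hG : Coh.IsQCoh G) (C : ∀ y : S', Chart p g G y) : IsIso (CohBC.bc0 p g p' h sq.w G) :=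
  (isUniv_iff_isIso _ _).1 (isUniv_of_charts sq hG C)

end K598.BcLoc

end
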