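import Groth.Agent.CohqA.FBCMain
import Groth.Agent.SGA4h.K557.BcAbs
import Groth.Prelude.Def_CohBC2

/-!
# The named base change morphism in degree `q` is an isomorphism for flat base change
-/

set_option autoImplicit false
universe v₁ v₂ u₁ u₂ u
open CategoryTheory CategoryTheory.Limits AlgebraicGeometry

namespace K598.BcQIso

open Groth.Agent.CohqA.FBCAbs Groth.Agent.CohqA.FBCMain Groth.Agent.CohqA.PullbackUniv Groth.Agent.CohqA.FBCHom
open K557.BcAbs K557.RDerRes

section Abs

variable {B : Type u₁} [Category.{v₁} B] [Abelian B] {C : Type u₂} [Category.{v₂} C] [Abelian C]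
  (G : B ⥤ C) [G.Additive] [PreservesFiniteLimits G]

theorem cyclesComparison_clsZ (L : CochainComplex B ℕ) (i : ℕ) :
    RDer.cyclesComparison G L i ≫ clsZ G L i = 𝟙 _ := by
  rw [← cancel_mono (((G.mapHomologicalComplex (ComplexShape.up ℕ)).obj L).iCycles i), Category.assoc, clsZ_i]
  exact (RDer.cyclesComparison_i G L i).trans (Category.id_comp _).symm

theorem homologyMap_homologyComparison {K : CochainComplex C ℕ} {L : CochainComplex B ℕ}
    (ψ : K ⟶ (G.mapHomologicalComplex (ComplexShape.up ℕ)).obj L) (i : ℕ) :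
    HomologicalComplex.homologyMap ψ i ≫ RDer.homologyComparison G L i = eta i ψ := by
  rw [← cancel_epi (K.homologyπ i), π_eta, ← Category.assoc, HomologicalComplex.homologyπ_naturality, Category.assoc,
    RDer.homologyπ_homologyComparison, ← Category.assoc]
  congr 1
  rw [← cancel_mono (clsZ G L i), Category.assoc, cyclesComparison_clsZ, Category.comp_id, zeta_clsZ]

theorem homologyComparison_eq (L : CochainComplex B ℕ) (i : ℕ) : RDer.homologyComparison G L i = cmpH G L i := by
  have h := homologyMap_homologyComparison G (𝟙 ((G.mapHomologicalComplex (ComplexShape.up ℕ)).obj L)) i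
  rw [HomologicalComplex.homologyMap_id, Category.id_comp] at h
  exact h

end Abs

variable {X S X' S' : Scheme.{u}}

theorem bcQAdj_eq (f : X ⟶ S) (g : S' ⟶ S) (g' : X' ⟶ X) (f' : X' ⟶ S') (w : g' ≫ f = f' ≫ g)
    [HasInjectiveResolutions X.Modules] [HasInjectiveResolutions X'.Modules]
    [PreservesFiniteLimits (Scheme.Modules.pullback g')] (M : X.Modules) (i : ℕ) (J : InjectiveResolution M)
    (I : InjectiveResolution ((Scheme.Modules.pullback g').obj M))
    (θ : J.cocomplex ⟶
      ((Scheme.Modules.pushforward g').mapHomologicalComplex (ComplexShape.up ℕ)).obj I.cocomplex)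
    (hθ : J.ι.f 0 ≫ θ.f 0 = (Scheme.Modules.pullbackPushforwardAdjunction g').unit.app M ≫
      (Scheme.Modules.pushforward g').map (I.ι.f 0)) :
    CohBC.bcQAdj f g f' g' w i M = (iso (Scheme.Modules.pushforward f) J i).hom ≫ eta i (pushCx w θ) ≫
      (Scheme.Modules.pushforward g).map (iso (Scheme.Modules.pushforward f') I i).inv := by
  have h := adjMap_eq (Φ := Scheme.Modules.pushforward g') (Ψ := Scheme.Modules.pushforward f)
    (Φ₂ := Scheme.Modules.pushforward f') (Ψ₂ := Scheme.Modules.pushforward g) (squareIso w)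
    ((Scheme.Modules.pullbackPushforwardAdjunction g').unit.app M) i J I θ hθ
  refine (show CohBC.bcQAdj f g f' g' w i M = adjMap (squareIso w)
    ((Scheme.Modules.pullbackPushforwardAdjunction g').unit.app M) i from rfl).trans (h.trans ?_)
  congr 1
  rw [tail, ← homologyMap_homologyComparison, pushCx, HomologicalComplex.homologyMap_comp]
  simp only [Category.assoc]

theorem main (f : X ⟶ S) (g : S' ⟶ S) (g' : X' ⟶ X) (f' : X' ⟶ S') (h : IsPullback g' f' f g) [QuasiCompact f]
    [QuasiSeparated f] [Flat g] [HasInjectiveResolutions X.Modules] [HasInjectiveResolutions X'.Modules]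
    [PreservesFiniteLimits (Scheme.Modules.pullback g')] (M : X.Modules) [hM : Coh.IsQCoh M] (i : ℕ) :
    IsIso (CohBC.bcQ f g f' g' h.w i M) := by
  obtain ⟨J⟩ := (HasInjectiveResolutions.out M).out
  obtain ⟨I⟩ := (HasInjectiveResolutions.out ((Scheme.Modules.pullback g').obj M)).out
  obtain ⟨θ, hθ⟩ := exists_u (Φ := Scheme.Modules.pushforward g')
    ((Scheme.Modules.pullbackPushforwardAdjunction g').unit.app M) J I
  have h1 := isUniv_eta h hM _ (isUniv_unit g' M) J I θ hθ i
  rw [CohBC.bcQ, ← isUniv_iff_isIso, bcQAdj_eq f g g' f' h.w M i J I θ hθ]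
  intro P
  have e2 : (fun φ : (Coh.Rpush f' i).obj ((Scheme.Modules.pullback g').obj M) ⟶ P =>
      ((iso (Scheme.Modules.pushforward f) J i).hom ≫ eta i (pushCx h.w θ) ≫
      (Scheme.Modules.pushforward g).map (iso (Scheme.Modules.pushforward f') I i).inv) ≫
        (Scheme.Modules.pushforward g).map φ) =
      (fun φ => (iso (Scheme.Modules.pushforward f) J i).hom ≫ φ) ∘
        (fun φ => eta i (pushCx h.w θ) ≫ (Scheme.Modules.pushforward g).map φ) ∘
        (fun φ => (iso (Scheme.Modules.pushforward f') I i).inv ≫ φ) := by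
    ext1 φ
    simp only [Function.comp, Category.assoc, Functor.map_comp]
  rw [e2]
  exact ((Iso.homFromEquiv _).symm.bijective.comp (h1 P)).comp (Iso.homFromEquiv _).bijective

end K598.BcQIso
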