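import Groth.Agent.CohqA.BaseChangeMod
import Mathlib.RingTheory.GradedAlgebra.TensorProduct
import Mathlib.Algebra.GradedMulAction
import Mathlib.RingTheory.Finiteness.Basic

/-!
# Base change of a graded module over a graded algebra

For a graded `A`-algebra `𝒜` (with ring `B`), a graded `B`-module `ℳ` and an `A`-algebra `A'`: the module
`A' ⊗ M` over `A' ⊗ B`, graded by the `A' ⊗ M_i`.
-/

set_option autoImplicit false
set_option linter.style.haveILetI false
universe u

noncomputable section

namespace K598.GrBase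

open TensorProduct Groth.Agent.CohqA.BaseChangeMod

variable (A A' : Type u) {B M : Type u} [CommRing A] [CommRing A'] [Algebra A A'] [CommRing B] [Algebra A B]
  [AddCommGroup M] [Module A M] [Module B M] [IsScalarTower A B M]

variable (B M) in
/-- The action of `A' ⊗ B` on `A' ⊗ M`. -/
def act : (A' ⊗[A] B) →ₐ[A'] Module.End A' (A' ⊗[A] M) :=
  Algebra.TensorProduct.lift (Algebra.ofId A' _)
    ((Module.End.baseChangeHom A A' M).comp (Algebra.lsmul A A M)) (fun x _ => Algebra.commutes x _)

theorem act_tmul (a : A') (b : B) (a' : A') (m : M) :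
    act A A' B M (a ⊗ₜ b) (a' ⊗ₜ m) = (a * a') ⊗ₜ (b • m) := by
  rw [act, Algebra.TensorProduct.lift_tmul]
  change a • (a' ⊗ₜ[A] (b • m)) = _
  rw [TensorProduct.smul_tmul', smul_eq_mul]

variable (B M) in
/-- The module structure. -/
@[reducible]
def mod : Module (A' ⊗[A] B) (A' ⊗[A] M) := Module.compHom _ (act A A' B M).toRingHom

theorem mod_smul (r : A' ⊗[A] B) (x : A' ⊗[A] M) : (letI := mod A A' B M; r • x) = act A A' B M r x := rfl

theorem tower : letI := mod A A' B M; IsScalarTower A' (A' ⊗[A] B) (A' ⊗[A] M) := by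
  letI := mod A A' B M
  refine ⟨fun a r x => ?_⟩
  rw [mod_smul, mod_smul, map_smul]
  rfl

/-- `1 ⊗ m`. -/
def inc : M →+ A' ⊗[A] M := (TensorProduct.mk A A' M 1).toAddMonoidHom

theorem inc_apply (m : M) : inc A A' m = 1 ⊗ₜ m := rfl

theorem inc_smul (b : B) (m : M) :
    (letI := mod A A' B M; inc A A' (b • m) = ((1 : A') ⊗ₜ[A] b) • inc A A' m) := by
  change _ = act A A' B M _ _
  rw [inc_apply, inc_apply, act_tmul, one_mul]

theorem isBC_inc : letI := mod A A' B M;
    IsBC (Algebra.TensorProduct.includeRight (R := A) (A := A') (B := B)).toRingHom (inc A A' (M := M)) := by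
  letI := mod A A' B M
  haveI := tower A A' (B := B) (M := M)
  refine ⟨fun b m => inc_smul A A' b m, fun Q _ _ g hg => ?_⟩
  letI : Module A' Q := Module.compHom Q (algebraMap A' (A' ⊗[A] B))
  haveI : IsScalarTower A' (A' ⊗[A] B) Q := ⟨fun a r q => by
    change (a • r) • q = algebraMap A' (A' ⊗[A] B) a • (r • q)
    rw [Algebra.smul_def, mul_smul]⟩
  letI : Module A Q := Module.compHom Q (algebraMap A A')
  haveI : IsScalarTower A A' Q := ⟨fun a r q => by
    change (a • r) • q = algebraMap A A' a • (r • q)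
    rw [Algebra.smul_def, mul_smul]⟩
  have hsm : ∀ (a : A') (q : Q), a • q = (a ⊗ₜ[A] (1 : B)) • q := fun a q => rfl
  let g₀ : M →ₗ[A] Q :=
    { g with
      map_smul' := fun a m => by
        change g (a • m) = algebraMap A A' a • g m
        rw [← algebraMap_smul B a m, hg, hsm]
        congr 1
        change (1 : A') ⊗ₜ[A] (algebraMap A B a) = _
        rw [Algebra.algebraMap_eq_smul_one, Algebra.algebraMap_eq_smul_one, TensorProduct.smul_tmul] }
  let g₁ : A' ⊗[A] M →ₗ[A'] Q := TensorProduct.AlgebraTensorModule.lift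
    ((LinearMap.lsmul A' (M →ₗ[A] Q)).flip g₀)
  have hg₁ : ∀ (a : A') (m : M), g₁ (a ⊗ₜ m) = a • g m := fun a m => rfl
  refine ⟨{ g₁ with
      map_smul' := fun r x => ?_ }, fun m => ?_, fun g' hg' => ?_⟩
  · change g₁ (act A A' B M r x) = r • g₁ x
    induction r with
    | zero => rw [map_zero, LinearMap.zero_apply, map_zero, zero_smul]
    | add r s hr hs => rw [map_add, LinearMap.add_apply, map_add, hr, hs, add_smul]
    | tmul a b =>
      induction x with
      | zero => rw [map_zero, map_zero, smul_zero]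
      | add x y hx hy => rw [map_add, map_add, hx, hy, map_add, smul_add]
      | tmul a' m =>
        rw [act_tmul, hg₁, hg₁, hg, hsm, hsm, smul_smul, smul_smul]
        congr 1
        rw [AlgHom.toRingHom_eq_coe, RingHom.coe_coe, Algebra.TensorProduct.includeRight_apply,
          Algebra.TensorProduct.tmul_mul_tmul, Algebra.TensorProduct.tmul_mul_tmul, mul_one, mul_one, one_mul]
  · change g₁ (1 ⊗ₜ m) = g m
    rw [hg₁, one_smul]
  · ext x
    change g' x = g₁ x
    induction x with
    | zero => rw [map_zero, map_zero]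
    | add x y hx hy => rw [map_add, map_add, hx, hy]
    | tmul a m =>
      rw [hg₁, ← hg', hsm, ← map_smul]
      congr 1
      change _ = act A A' B M _ _
      rw [inc_apply, act_tmul, mul_one, one_smul]

variable (𝒜 : ℕ → Submodule A B) [GradedAlgebra 𝒜] (ℳ : ℕ → Submodule A M)

omit [GradedAlgebra 𝒜] in
theorem gradedSMul [SetLike.GradedSMul 𝒜 ℳ] : letI := mod A A' B M;
    SetLike.GradedSMul (fun i => (𝒜 i).baseChange A') (fun i => (ℳ i).baseChange A') := by
  letI := mod A A' B M
  refine ⟨fun {i j} r x hr hx => ?_⟩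
  change act A A' B M r x ∈ (ℳ (i +ᵥ j)).baseChange A'
  obtain ⟨r, rfl⟩ := Submodule.toBaseChange_surjective' _ _ hr
  obtain ⟨x, rfl⟩ := Submodule.toBaseChange_surjective' _ _ hx
  clear hr hx
  induction r with
  | zero => simp
  | add r s hr hs => simp only [map_add, Submodule.coe_add, LinearMap.add_apply]; exact add_mem hr hs
  | tmul a b =>
    induction x with
    | zero => simp
    | add x y hx hy => simp only [map_add, Submodule.coe_add] at hx hy ⊢; exact add_mem hx hy
    | tmul a' m =>
      rw [Submodule.coe_toBaseChange_tmul, Submodule.coe_toBaseChange_tmul, act_tmul]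
      exact Submodule.tmul_mem_baseChange_of_mem _ (SetLike.GradedSMul.smul_mem b.2 m.2)

/-- `M_i → A' ⊗ M_i`. -/
def incDeg (i : ℕ) : ℳ i →+ (ℳ i).baseChange A' where
  toFun m := ⟨1 ⊗ₜ m.1, Submodule.tmul_mem_baseChange_of_mem _ m.2⟩
  map_zero' := Subtype.ext (by simp)
  map_add' m m' := Subtype.ext (by simp [TensorProduct.tmul_add])

theorem isBC_incDeg [DirectSum.Decomposition ℳ] (i : ℕ) : IsBC (algebraMap A A') (incDeg A A' ℳ i) := by
  have h1 := (isBC_iff_isBaseChange (TensorProduct.mk A A' (ℳ i) 1)).2 (TensorProduct.isBaseChange A (ℳ i) A')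
  refine h1.of_equiv (LinearEquiv.ofBijective ((ℳ i).toBaseChange A') (DirectSum.toBaseChange_bijective ℳ i))
    fun m => ?_
  exact Subtype.ext (Submodule.coe_toBaseChange_tmul _ _ _ _)

theorem finite [Module.Finite B M] : letI := mod A A' B M; Module.Finite (A' ⊗[A] B) (A' ⊗[A] M) := by
  letI := mod A A' B M
  haveI := tower A A' (B := B) (M := M)
  classical
  obtain ⟨s, hs⟩ := Module.Finite.fg_top (R := B) (M := M)
  refine ⟨⟨s.image (inc A A'), ?_⟩⟩
  rw [eq_top_iff]
  rintro x -
  induction x with
  | zero => exact zero_mem _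
  | add x y hx hy => exact add_mem hx hy
  | tmul a m =>
    have hm : m ∈ Submodule.span B (s : Set M) := hs ▸ trivial
    have h1 : inc A A' m ∈ Submodule.span (A' ⊗[A] B) ((s.image (inc A A') : Finset _) : Set (A' ⊗[A] M)) := by
      induction hm using Submodule.span_induction with
      | mem x hx => exact Submodule.subset_span (by simpa using ⟨x, hx, rfl⟩)
      | zero => rw [map_zero]; exact zero_mem _
      | add x y _ _ hx hy => rw [map_add]; exact add_mem hx hy
      | smul b x _ hx => rw [inc_smul]; exact Submodule.smul_mem _ _ hx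
    have h2 : a ⊗ₜ[A] m = (a ⊗ₜ[A] (1 : B)) • inc A A' m := by
      change _ = act A A' B M _ _
      rw [inc_apply, act_tmul, mul_one, one_smul]
    rw [h2]
    exact Submodule.smul_mem _ _ h1

end K598.GrBase

end
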