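import Groth.Agent.Coherent.K598.GrProj
import Groth.Agent.Coherent.K598.BcLoc
import Groth.Agent.S0850
import Groth.Agent.S4400
import Groth.Agent.EGA2.K35.ProjPull
import Groth.Agent.EGA2.K32.ProjProper
import Groth.Agent.EGA2.K35.Dehom
import Groth.Agent.EGA2.K31.RelPow
import Groth.Agent.EGA2.K40.RelBC
import Groth.Agent.EGA2.K40.RelTwBC
import Groth.Agent.ASBun.K791.Tens
import Groth.Agent.FormalB.PullCoh
import Groth.Agent.S8284
import Mathlib.RingTheory.FiniteType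

/-!
# Charts on which large twists of a coherent module on a relative `Proj` commute with base change
-/

set_option autoImplicit false
universe u

open CategoryTheory CategoryTheory.Limits AlgebraicGeometry Opposite TopologicalSpace
open scoped HomogeneousIdeal TensorProduct
open AlgebraicGeometry.Scheme.Modules

noncomputable section

namespace K598.GrLoc

open K598.GrBase K598.GrProj K598.BcLoc Groth.Agent.CohqA.BaseChangeMod Groth.Agent.CohqA.PullbackUniv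
  Groth.Agent.CohqA.PullbackSections Groth.Agent.CohqA.PullbackAffine Groth.Agent.CohqA.PullbackQCoh
  Groth.Agent.CohqA.AffineBaseChange

section abs

variable {A B : Type u} (A' : Type u) [CommRing A] [CommRing A'] [Algebra A A'] [CommRing B] [Algebra A B]
  (𝒜 : ℕ → Submodule A B) [GradedAlgebra 𝒜]

theorem pushSquare_comp {X S X' S' : Scheme.{u}} {f : X ⟶ S} {g : S' ⟶ S} {g' : X' ⟶ X} {f' : X' ⟶ S'}
    (w : g' ≫ f = f' ≫ g) {M M' : X.Modules} {N : X'.Modules} (e : M' ⟶ M) (a : M ⟶ (pushforward g').obj N) :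
    pushSquare f g g' f' w (e ≫ a) = (pushforward f).map e ≫ pushSquare f g g' f' w a := by
  simp only [pushSquare, Functor.map_comp, Category.assoc]

/-- Large twists of a coherent module on `Proj B`: the direct image to `Spec A` commutes with base change. -/
theorem exists_square_coh [IsNoetherianRing A] [IsNoetherianRing A'] [Algebra.FiniteType A B]
    (hgen : (𝒜₊).toIdeal = Ideal.span (𝒜 1 : Set B)) [QuasiCompact (str 𝒜)] [QuasiSeparated (str 𝒜)]
    (F : (Proj 𝒜).Modules) (hF : Coh.IsCoh F) :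
    ∃ n₀ : ℕ, ∀ n : ℕ, n₀ ≤ n → ∀ G : (Proj 𝒜).Modules, Nonempty (G ≅ Twist.twistBy 𝒜 F (n : ℤ)) →
      ∃ (T' : (Proj (bc A' 𝒜)).Modules)
        (b : G ⟶ (pushforward (Proj.map (bcHom A' 𝒜) (irr_bc A' 𝒜))).obj T'),
        IsUniv (Proj.map (bcHom A' 𝒜) (irr_bc A' 𝒜)) b ∧
          IsUniv (Spec.map (CommRingCat.ofHom (algebraMap A A')))
            (pushSquare (str 𝒜) (Spec.map (CommRingCat.ofHom (algebraMap A A')))
              (Proj.map (bcHom A' 𝒜) (irr_bc A' 𝒜)) (str (bc A' 𝒜)) (isPullback_bc A' 𝒜).w b) := by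
  have hN : IsNoetherianRing B := Algebra.FiniteType.isNoetherianRing A B
  obtain ⟨M, _, _, _, _, ℳ, _, _, hfin, ⟨e⟩⟩ := Groth.Agent.S0850.result 𝒜 F hF
  obtain ⟨n₀, hn₀⟩ := exists_square (A' := A') 𝒜 ℳ hgen
  refine ⟨n₀, fun n hn G ⟨eG⟩ => ?_⟩
  obtain ⟨T', b, hb, hb'⟩ := hn₀ n hn
  obtain ⟨e'⟩ := Groth.Agent.S4400.result 𝒜 hgen ℳ (n : ℤ)
  let i : G ≅ GrMod.tilde 𝒜 ℳ (n : ℤ) :=
    eG ≪≫ Groth.Agent.Ega2.Tens.mapTIso e.symm (Iso.refl (Twist.twist 𝒜 (n : ℤ))) ≪≫ e'.symm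
  refine ⟨T', i.hom ≫ b, hb.iso_comp i.hom, ?_⟩
  rw [pushSquare_comp]
  exact hb'.iso_comp _

theorem adjoin_eq_top {R B : Type u} [CommRing R] [CommRing B] [Algebra R B] (S1 : Set B) (T : Finset B)
    (hgen : Subring.closure (Set.range (algebraMap R B) ∪ S1) = ⊤)
    (hT : ∀ x ∈ S1, ∃ c : B → R, x = ∑ t ∈ T, algebraMap R B (c t) * t) :
    Algebra.adjoin R (T : Set B) = ⊤ := by
  rw [eq_top_iff]
  have h1 : Subring.closure (Set.range (algebraMap R B) ∪ S1) ≤ (Algebra.adjoin R (T : Set B)).toSubring := by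
    rw [Subring.closure_le]
    rintro x (⟨r, rfl⟩ | hx)
    · exact Subalgebra.algebraMap_mem _ r
    · obtain ⟨c, rfl⟩ := hT x hx
      refine Subalgebra.sum_mem _ fun t ht => ?_
      exact Subalgebra.mul_mem _ (Subalgebra.algebraMap_mem _ _) (Algebra.subset_adjoin ht)
  rw [hgen] at h1
  exact fun x _ => h1 trivial

end abs

section rel

/-- A chart for the large twists of a coherent module. -/
theorem exists_chart_abs {A A' B σ : Type u} [CommRing A] [CommRing A'] [Algebra A A'] [IsNoetherianRing A]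
    [IsNoetherianRing A'] [CommRing B] [Algebra A B] [SetLike σ B] [AddSubgroupClass σ B] (𝒜 : ℕ → σ) [GradedRing 𝒜]
    (h0 : ∀ r : A, algebraMap A B r ∈ 𝒜 0) (T : Finset B)
    (hT : ∀ x ∈ 𝒜 1, ∃ c : B → A, x = ∑ t ∈ T, algebraMap A B (c t) * t)
    (hgen : Subring.closure (Set.range (algebraMap A B) ∪ (𝒜 1 : Set B)) = ⊤)
    {P S S' : Scheme.{u}} (p : P ⟶ S) (g : S' ⟶ S) (f : Spec (CommRingCat.of A) ⟶ S) (hf : IsOpenImmersion f)
    (f' : Spec (CommRingCat.of A') ⟶ S') (hf' : IsOpenImmersion f')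
    (eS : f' ≫ g = Spec.map (CommRingCat.ofHom (algebraMap A A')) ≫ f) (em : Proj 𝒜 ⟶ P)
    (s : CommRingCat.of A ⟶ CommRingCat.of (𝒜 0)) (hs : ∀ r, ((s.hom r : 𝒜 0) : B) = algebraMap A B r)
    (sq : IsPullback em (Proj.toSpecZero 𝒜 ≫ Spec.map s) p f) [QuasiCompact p] [QuasiSeparated p]
    (F : P.Modules) (hF : Coh.IsCoh F) (L : ℤ → P.Modules)
    (lam : ∀ n, L n ⟶ (pushforward em).obj (GrTwist.twist 𝒜 n)) (hlam : ∀ n, IsUniv em (lam n)) :
    ∃ n₀ : ℕ, ∀ n : ℕ, n₀ ≤ n → ∀ y ∈ f'.opensRange, Nonempty (Chart p g (CohB1.tensorMod F (L n)) y) := by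
  have hft : Algebra.FiniteType A B := ⟨⟨T, adjoin_eq_top _ T hgen hT⟩⟩
  have hgen' : Subring.closure ((𝒜 0 : Set B) ∪ (𝒜 1 : Set B)) = ⊤ := by
    rw [eq_top_iff, ← hgen]
    refine Subring.closure_mono (Set.union_subset_union_left _ ?_)
    rintro _ ⟨r, rfl⟩
    exact h0 r
  have hle : ∀ x ∈ (𝒜₊).toIdeal, x ∈ Ideal.span (𝒜 1 : Set B) := fun x hx => K35.Dehom.irrelevant_le_span hgen' hx
  have hspan : (𝒜₊).toIdeal = Ideal.span (𝒜 1 : Set B) := by
    refine le_antisymm hle (Ideal.span_le.2 fun x hx => ?_)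
    exact HomogeneousIdeal.mem_irrelevant_of_mem 𝒜 one_pos hx
  let 𝒜' := K35.Regrade.subm 𝒜 h0
  have hspan' : ((𝒜')₊).toIdeal = Ideal.span (𝒜' 1 : Set B) := by
    have h1 : ∀ x, x ∈ ((𝒜')₊).toIdeal → x ∈ Ideal.span (𝒜' 1 : Set B) :=
      fun x hx => K35.Dehom.irrelevant_le_span (𝒜 := 𝒜') hgen' hx
    refine le_antisymm h1 (Ideal.span_le.2 fun x hx => ?_)
    exact HomogeneousIdeal.mem_irrelevant_of_mem 𝒜' one_pos hx
  let e := K35.Regrade.projIso 𝒜 h0
  have hstr : e.hom ≫ Proj.toSpecZero 𝒜 ≫ Spec.map s = str 𝒜' := K35.ProjPull.projIso_hom_toSpec h0 s hs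
  have sq1 : IsPullback (e.hom ≫ em) (str 𝒜') p f := by
    refine IsPullback.of_iso sq e.symm (Iso.refl _) (Iso.refl _) (Iso.refl _) ?_ ?_ ?_ ?_
    · simp
    · rw [← hstr]; simp
    · simp
    · simp
  have hqc : QuasiCompact (str 𝒜') := MorphismProperty.of_isPullback sq1 ‹_›
  have hqs : QuasiSeparated (str 𝒜') := MorphismProperty.of_isPullback sq1 ‹_›
  let j : Proj 𝒜' ⟶ P := e.hom ≫ em
  obtain ⟨n₀, hn₀⟩ := exists_square_coh A' 𝒜' hspan' ((Scheme.Modules.pullback j).obj F)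
    (Groth.Agent.FormalB.PullCoh.isCoh_pullback j hF)
  refine ⟨n₀, fun n hn y hy => ?_⟩
  -- the twist on the chart
  have hbc : IsBC (K35.Regrade.toSub 𝒜 h0).toRingHom (AddMonoidHom.id B) :=
    IsBC.of_bijective _ Function.bijective_id _ Function.bijective_id fun _ _ => rfl
  have hu := K40.GrDeh.isUniv_comap (K35.Regrade.toSub 𝒜 h0) (K35.Regrade.irr_toSub 𝒜 h0) hspan
    (M := B) (ℳ := 𝒜) (N := B) (𝒩 := 𝒜')
    { AddMonoidHom.id B with map_smul' := fun _ _ => rfl } (fun _ _ h => h) hbc (n : ℤ)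
  let tw : GrTwist.twist 𝒜 (n : ℤ) ⟶ (pushforward e.hom).obj (GrTwist.twist 𝒜' (n : ℤ)) :=
    GrMod.comap (K35.Regrade.toSub 𝒜 h0) (K35.Regrade.irr_toSub 𝒜 h0)
      (M := B) (ℳ := 𝒜) (N := B) (𝒩 := 𝒜')
      { AddMonoidHom.id B with map_smul' := fun _ _ => rfl } (fun _ _ h => h) (n : ℤ)
  have htw : IsUniv e.hom tw := hu
  obtain ⟨i, -, -⟩ := (isUniv_pbUnit j (L n)).exists_iso ((hlam n).comp htw)
  let eG : (Scheme.Modules.pullback j).obj (CohB1.tensorMod F (L n)) ≅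
      Twist.twistBy 𝒜' ((Scheme.Modules.pullback j).obj F) (n : ℤ) :=
    Groth.Agent.ASBun.K791.Tens.pullTens j F (L n) ≪≫ Groth.Agent.Ega2.Tens.mapTIso (Iso.refl _) i
  obtain ⟨T', b, hb, hb'⟩ := hn₀ n hn _ ⟨eG⟩
  exact ⟨{ f := f, f' := f', s := Spec.map (CommRingCat.ofHom (algebraMap A A')), eS := eS, hf := hf, hf' := hf',
           j := j, q := str 𝒜', sq := sq1, Φ := _, q' := str (bc A' 𝒜'), sq' := isPullback_bc A' 𝒜',
           T := _, k := pbUnit j _, hk := isUniv_pbUnit j _, T' := T', b := b, hb := hb, hy := hy, univ := hb' }⟩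

end rel

end K598.GrLoc

end
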