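import Groth.Agent.Coherent.K598.GrBase
import Groth.Agent.EGA2.K40.GrDeh
import Groth.Agent.EGA2.K40.AwayBC
import Groth.Agent.FormalB.ProjScalar
import Groth.Agent.Coherent.K46.GrTF
import Groth.Agent.CohqA.AffineBaseChange

/-!
# The direct image of `M(n)~` along `Proj B → Spec A` commutes with base change for large `n`
-/

set_option autoImplicit false
set_option linter.style.haveILetI false
universe u

open CategoryTheory CategoryTheory.Limits AlgebraicGeometry Opposite TopologicalSpace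
open scoped HomogeneousIdeal TensorProduct
open AlgebraicGeometry.Scheme.Modules

noncomputable section

namespace K598.GrProj

open K598.GrBase Groth.Agent.CohqA.BaseChangeMod Groth.Agent.CohqA.PullbackUniv
  Groth.Agent.CohqA.PullbackSections Groth.Agent.CohqA.PullbackAffine Groth.Agent.CohqA.PullbackQCoh
  Groth.Agent.CohqA.AffineBaseChange K31.GrFracs

section scalar

variable {A B : Type u} [CommRing A] [CommRing B] [Algebra A B] (𝒜 : ℕ → Submodule A B) [GradedAlgebra 𝒜]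

/-- The structure morphism. -/
abbrev str : Proj 𝒜 ⟶ Spec (CommRingCat.of A) :=
  Proj.toSpecZero 𝒜 ≫ Spec.map (CommRingCat.ofHom (algebraMap A (𝒜 0)))

theorem oval_str (a : A) (x : (⊤ : (Proj 𝒜).Opens)) :
    oval (𝒜 := 𝒜) (U := ⊤) ((str 𝒜).appTop.hom ((Scheme.ΓSpecIso (CommRingCat.of A)).inv.hom a)) x =
      algebraMap B (GrTwist.Loc 𝒜 x.1) (algebraMap A B a) := by
  have h1 := Groth.Agent.FormalB.ProjScalar.toSpecZero_appTop_apply 𝒜 (algebraMap A (𝒜 0) a) x.1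
  have h2 : (str 𝒜).appTop.hom ((Scheme.ΓSpecIso (CommRingCat.of A)).inv.hom a) =
      (Proj.toSpecZero 𝒜).appTop.hom
        ((Scheme.ΓSpecIso (CommRingCat.of (𝒜 0))).inv.hom (algebraMap A (𝒜 0) a)) := by
    rw [str, Scheme.Hom.comp_appTop]
    have h3 := ConcreteCategory.congr_hom (Scheme.ΓSpecIso_inv_naturality
      (CommRingCat.ofHom (algebraMap A (𝒜 0)))) a
    exact (congrArg (Proj.toSpecZero 𝒜).appTop.hom h3).symm
  rw [h2]
  exact h1

variable {M : Type u} [AddCommGroup M] [Module A M] [Module B M] [IsScalarTower A B M]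
  (ℳ : ℕ → Submodule A M) [SetLike.GradedSMul 𝒜 ℳ]

theorem alpha_smul (n : ℕ) (a : A) (m : ℳ n) :
    GrMod.alpha 𝒜 ℳ n (a • m) =
      ((str 𝒜).appTop.hom ((Scheme.ΓSpecIso (CommRingCat.of A)).inv.hom a) : Γ(Proj 𝒜, ⊤)) •
        GrMod.alpha 𝒜 ℳ n m := by
  refine gval_ext fun x => ?_
  refine Eq.trans ?_ (gval_smul _ _ x).symm
  rw [oval_str]
  change LocalizedModule.mk (a • (m : M)) 1 = _ • LocalizedModule.mk (m : M) 1
  rw [← Localization.mk_one_eq_algebraMap, LocalizedModule.mk_smul_mk, one_mul, algebraMap_smul]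

end scalar

section

variable {A A' B : Type u} [CommRing A] [CommRing A'] [Algebra A A'] [CommRing B] [Algebra A B]
  (𝒜 : ℕ → Submodule A B) [GradedAlgebra 𝒜]

variable (A') in
/-- The grading of `A' ⊗ B`. -/
abbrev bc (i : ℕ) : Submodule A' (A' ⊗[A] B) := (𝒜 i).baseChange A'

variable (A') in
/-- The graded homomorphism `B → A' ⊗ B`. -/
def bcHom : 𝒜 →+*ᵍ bc A' 𝒜 :=
  { (Algebra.TensorProduct.includeRight (R := A) (A := A') (B := B)).toRingHom with
    map_mem := fun hx => Submodule.tmul_mem_baseChange_of_mem _ hx }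

variable (A') in
omit [GradedAlgebra 𝒜] in
theorem isPushout_bc : IsPushout (CommRingCat.ofHom (algebraMap A A')) (CommRingCat.ofHom (algebraMap A B))
    (CommRingCat.ofHom (algebraMap A' (A' ⊗[A] B))) (CommRingCat.ofHom (bcHom A' 𝒜).toRingHom) :=
  CommRingCat.isPushout_tensorProduct A A' B

variable (A') in
theorem irr_bc : (bc A' 𝒜)₊ ≤ (𝒜₊).map (bcHom A' 𝒜) :=
  K40.AwayBC.irrelevant_le_map (algebraMap A A') (algebraMap A B) (algebraMap A' (A' ⊗[A] B)) (bcHom A' 𝒜)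
    (isPushout_bc A' 𝒜) (fun r => SetLike.algebraMap_mem_graded (bc A' 𝒜) r)

variable (A') in
theorem isPullback_bc : IsPullback (Proj.map (bcHom A' 𝒜) (irr_bc A' 𝒜)) (str (bc A' 𝒜)) (str 𝒜)
    (Spec.map (CommRingCat.ofHom (algebraMap A A'))) :=
  K40.AwayBC.isPullback_proj_map (algebraMap A A') (algebraMap A B) (algebraMap A' (A' ⊗[A] B))
    (fun r => SetLike.algebraMap_mem_graded 𝒜 r) (fun r => SetLike.algebraMap_mem_graded (bc A' 𝒜) r)
    (bcHom A' 𝒜) (isPushout_bc A' 𝒜) (irr_bc A' 𝒜)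

variable {M : Type u} [AddCommGroup M] [Module A M] [Module B M] [IsScalarTower A B M]
  (ℳ : ℕ → Submodule A M) [SetLike.GradedSMul 𝒜 ℳ] [DirectSum.Decomposition ℳ]

/-- **Base change of `q_* M(n)~` for large `n`.** -/
theorem exists_square [IsNoetherianRing A] [IsNoetherianRing A'] [Algebra.FiniteType A B]
    (hgen : (𝒜₊).toIdeal = Ideal.span (𝒜 1 : Set B)) [Module.Finite B M]
    [QuasiCompact (str 𝒜)] [QuasiSeparated (str 𝒜)] :
    ∃ n₀ : ℕ, ∀ n : ℕ, n₀ ≤ n →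
      ∃ (T' : (Proj (bc A' 𝒜)).Modules)
        (b : GrMod.tilde 𝒜 ℳ (n : ℤ) ⟶ (pushforward (Proj.map (bcHom A' 𝒜) (irr_bc A' 𝒜))).obj T'),
        IsUniv (Proj.map (bcHom A' 𝒜) (irr_bc A' 𝒜)) b ∧
          IsUniv (Spec.map (CommRingCat.ofHom (algebraMap A A')))
            (pushSquare (str 𝒜) (Spec.map (CommRingCat.ofHom (algebraMap A A')))
              (Proj.map (bcHom A' 𝒜) (irr_bc A' 𝒜)) (str (bc A' 𝒜)) (isPullback_bc A' 𝒜).w b) := by
  let _ := mod A A' B M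
  have := tower A A' (B := B) (M := M)
  let ℳ' : ℕ → Submodule A' (A' ⊗[A] M) := fun i => (ℳ i).baseChange A'
  have hgs : SetLike.GradedSMul (bc A' 𝒜) ℳ' := gradedSMul A A' 𝒜 ℳ
  have hfin : Module.Finite (A' ⊗[A] B) (A' ⊗[A] M) := finite A A'
  have hN : IsNoetherianRing B := Algebra.FiniteType.isNoetherianRing A B
  have hN' : IsNoetherianRing (A' ⊗[A] B) := Algebra.FiniteType.isNoetherianRing A' (A' ⊗[A] B)
  obtain ⟨N, hNb⟩ := Groth.Agent.Coherent.K46.GrTF.bijective 𝒜 ℳ ⟨0, IsNoetherian.noetherian _⟩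
  obtain ⟨N', hNb'⟩ := Groth.Agent.Coherent.K46.GrTF.bijective (bc A' 𝒜) ℳ' ⟨0, IsNoetherian.noetherian _⟩
  let v : M →ₛₗ[(bcHom A' 𝒜).toRingHom] (A' ⊗[A] M) :=
    { inc A A' with map_smul' := fun b m => inc_smul A A' b m }
  have hv : ∀ (i : ℕ) (m : M), m ∈ ℳ i → v m ∈ ℳ' i := fun i m hm => Submodule.tmul_mem_baseChange_of_mem _ hm
  have hbc : IsBC (bcHom A' 𝒜).toRingHom v.toAddMonoidHom := isBC_inc A A'
  refine ⟨max N N', fun n hn => ⟨GrMod.tilde (bc A' 𝒜) ℳ' n,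
    GrMod.comap (bcHom A' 𝒜) (irr_bc A' 𝒜) v hv n,
    K40.GrDeh.isUniv_comap (bcHom A' 𝒜) (irr_bc A' 𝒜) hgen v hv hbc n, ?_⟩⟩
  have hb := hNb n (le_trans (le_max_left _ _) hn)
  have hb' := hNb' n (le_trans (le_max_right _ _) hn)
  have hqc : QuasiCompact (str (bc A' 𝒜)) := MorphismProperty.of_isPullback (isPullback_bc A' 𝒜) ‹_›
  have hqs : QuasiSeparated (str (bc A' 𝒜)) := MorphismProperty.of_isPullback (isPullback_bc A' 𝒜) ‹_›
  have i1 : ((pushforward (str 𝒜)).obj (GrMod.tilde 𝒜 ℳ (n : ℤ))).IsQuasicoherent :=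
    Groth.Agent.Ega1.QcqsPush.isQCoh_pushforward _ _ (isQCoh_tilde (n : ℤ))
  have i2 : ((pushforward (str (bc A' 𝒜))).obj (GrMod.tilde (bc A' 𝒜) ℳ' (n : ℤ))).IsQuasicoherent :=
    Groth.Agent.Ega1.QcqsPush.isQCoh_pushforward _ _ (isQCoh_tilde (n : ℤ))
  refine isUniv_of_isBC _ _ ?_
  let m : ℳ n →+ Γ((pushforward (str 𝒜)).obj (GrMod.tilde 𝒜 ℳ (n : ℤ)), (⊤ : (Spec (CommRingCat.of A)).Opens)) :=
    GrMod.alpha 𝒜 ℳ n
  let m' : ℳ' n →+ Γ((pushforward (str (bc A' 𝒜))).obj (GrMod.tilde (bc A' 𝒜) ℳ' (n : ℤ)),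
      (⊤ : (Spec (CommRingCat.of A')).Opens)) :=
    GrMod.alpha (bc A' 𝒜) ℳ' n
  refine (isBC_congr_of_bijective (φ := algebraMap A A') (f := incDeg A A' ℳ n)
    (Scheme.ΓSpecIso (CommRingCat.of A)).inv.hom ?_ (Scheme.ΓSpecIso (CommRingCat.of A')).inv.hom ?_
    m hb ?_ m' hb' ?_ ?_ ?_).1 (isBC_incDeg A A' ℳ n)
  · exact ConcreteCategory.bijective_of_isIso (Scheme.ΓSpecIso (CommRingCat.of A)).inv
  · exact ConcreteCategory.bijective_of_isIso (Scheme.ΓSpecIso (CommRingCat.of A')).inv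
  · exact fun r x => alpha_smul 𝒜 ℳ n r x
  · exact fun r x => alpha_smul (bc A' 𝒜) ℳ' n r x
  · have := Scheme.ΓSpecIso_inv_naturality (CommRingCat.ofHom (algebraMap A A'))
    exact congrArg CommRingCat.Hom.hom this
  · ext m
    rfl

end

end K598.GrProj

end
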