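import Groth.Agent.Coherent.K598.BcQIso

/-!
# The edge map `R^q (f ≫ g)_* M ⟶ g_* R^q f_* M` is an isomorphism for `g` affine and `M` quasi-coherent
-/

set_option autoImplicit false
universe u
open CategoryTheory CategoryTheory.Limits AlgebraicGeometry

namespace K598.LerayAff

open Groth.Agent.CohqA.FBCAbs Groth.Agent.CohqA.FBCMain Groth.Agent.CohqA.FBCHom Groth.Agent.CohqA.FBCCore
  Groth.Agent.CohqA.FBCSec
open K557.BcAbs K557.RDerRes K598.BcQIso

variable {X Y Z : Scheme.{u}}

/-- `O_Y`-linear maps: the class of a cycle on sections. -/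
theorem surjective_π_of_loc {K : CochainComplex Y.Modules ℕ} {i : ℕ} (hK : Loc K i) {U : Y.Opens}
    (hU : IsAffineOpen U) : Function.Surjective ((K.homologyπ i).app U) := by
  intro t
  obtain ⟨x, hx⟩ := (hK.bijective hU).2 t
  obtain ⟨z, rfl⟩ := c_surjective K i U x
  exact ⟨z, by rw [← hx, b_c]⟩

theorem exists_of_π_eq_zero {K : CochainComplex Y.Modules ℕ} {i : ℕ} (hK : Loc K i) {U : Y.Opens}
    (hU : IsAffineOpen U) (z : Γ(K.cycles i, U)) (hz : (K.homologyπ i).app U z = 0) :
    ∃ y : Γ(K.X ((ComplexShape.up ℕ).prev i), U), (K.toCycles ((ComplexShape.up ℕ).prev i) i).app U y = z := by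
  have h1 : c K i U z = 0 := by
    apply (hK.bijective hU).1
    rw [b_c, map_zero]
    exact hz
  have h2 := exact_cls (sec (RingHom.id Γ(Y, U)) (le_refl U)) K i _ rfl
  obtain ⟨y, hy⟩ := (ShortComplex.moduleCat_exact_iff _).1 h2 z h1
  exact ⟨y, hy⟩

/-- surjectivity of the class map is invariant under isomorphism of complexes -/
theorem surjective_π_of_iso {K K' : CochainComplex Y.Modules ℕ} (e : K ≅ K') {i : ℕ} {U : Y.Opens}
    (h : Function.Surjective ((K.homologyπ i).app U)) : Function.Surjective ((K'.homologyπ i).app U) := by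
  intro t
  obtain ⟨z, hz⟩ := h ((HomologicalComplex.homologyMap e.inv i).app U t)
  refine ⟨(HomologicalComplex.cyclesMap e.hom i).app U z, ?_⟩
  have h1 := HomologicalComplex.homologyπ_naturality e.hom i
  have h2 := congr($(h1).app U z)
  have h3 : HomologicalComplex.homologyMap e.inv i ≫ HomologicalComplex.homologyMap e.hom i = 𝟙 _ := by
    rw [← HomologicalComplex.homologyMap_comp, e.inv_hom_id, HomologicalComplex.homologyMap_id]
  have h4 := congr($(h3).app U t)
  calc _ = (HomologicalComplex.homologyMap e.hom i).app U ((K.homologyπ i).app U z) := h2.symm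
    _ = (HomologicalComplex.homologyMap e.hom i).app U ((HomologicalComplex.homologyMap e.inv i).app U t) := by rw [hz]
    _ = t := h4

theorem isIso_cmpH (f : X ⟶ Y) (g : Y ⟶ Z) [QuasiCompact f] [QuasiSeparated f] [IsAffineHom g] {M : X.Modules}
    (hM : Coh.IsQCoh M) (J : InjectiveResolution M) (i : ℕ) :
    IsIso (cmpH (Scheme.Modules.pushforward g) (push f J.cocomplex) i) := by
  have hK := loc_push f hM J i
  have hK' := loc_push (f ≫ g) hM J i
  let e : push (f ≫ g) J.cocomplex ≅ ((Scheme.Modules.pushforward g).mapHomologicalComplex (ComplexShape.up ℕ)).obj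
      (push f J.cocomplex) :=
    (NatIso.mapHomologicalComplex (Scheme.Modules.pushforwardComp f g).symm (ComplexShape.up ℕ)).app J.cocomplex
  apply Groth.Agent.CohqA.PullbackQCoh.isIso_of_bijective_basis (X := Z) _ (ι := Z.affineOpens) Subtype.val
    (by rw [Subtype.range_coe_subtype]; exact Z.isBasis_affineOpens)
  rintro ⟨V, hV⟩
  have hU : IsAffineOpen (g ⁻¹ᵁ V) := hV.preimage g
  have hs : Function.Surjective ((((Scheme.Modules.pushforward g).mapHomologicalComplex (ComplexShape.up ℕ)).obj
      (push f J.cocomplex)).homologyπ i |>.app V) :=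
    surjective_π_of_iso e (surjective_π_of_loc hK' hV)
  have hcls : Function.Surjective ((cls (Scheme.Modules.pushforward g) (push f J.cocomplex) i).app V) := by
    intro t
    obtain ⟨z, hz⟩ := hs t
    refine ⟨(inv (clsZ (Scheme.Modules.pushforward g) (push f J.cocomplex) i)).app V z, ?_⟩
    have h1 : inv (clsZ (Scheme.Modules.pushforward g) (push f J.cocomplex) i) ≫
      cls (Scheme.Modules.pushforward g) (push f J.cocomplex) i = HomologicalComplex.homologyπ _ i := by
      rw [cls, IsIso.inv_hom_id_assoc]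
    have h2 := congr($(h1).app V z)
    exact h2.trans hz
  have hcmp : ∀ z : Γ((push f J.cocomplex).cycles i, g ⁻¹ᵁ V),
      (cmpH (Scheme.Modules.pushforward g) (push f J.cocomplex) i).app V
        ((cls (Scheme.Modules.pushforward g) (push f J.cocomplex) i).app V z) =
      ((push f J.cocomplex).homologyπ i).app (g ⁻¹ᵁ V) z := by
    intro z
    have h1 := cls_cmpH (Scheme.Modules.pushforward g) (push f J.cocomplex) i
    exact congr($(h1).app V z)
  constructor
  · rw [injective_iff_map_eq_zero]
    intro s hs0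
    obtain ⟨z, rfl⟩ := hcls s
    have h0 := (hcmp z).symm.trans hs0
    obtain ⟨y, hy⟩ := exists_of_π_eq_zero hK hU z h0
    have h1 := map_toCycles_cls (Scheme.Modules.pushforward g) (push f J.cocomplex) i ((ComplexShape.up ℕ).prev i)
    have h2 := congr($(h1).app V y)
    rw [← hy]
    exact h2
  · intro t
    obtain ⟨z, hz⟩ := surjective_π_of_loc hK hU t
    exact ⟨_, (hcmp z).trans hz⟩

theorem main (f : X ⟶ Y) (g : Y ⟶ Z) [QuasiCompact f] [QuasiSeparated f] [IsAffineHom g]
    [HasInjectiveResolutions X.Modules] (M : X.Modules) [hM : Coh.IsQCoh M] (p : ℕ) :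
    IsIso (CohBC.lerayEdgeOut f g p M) := by
  obtain ⟨J⟩ := (HasInjectiveResolutions.out M).out
  have h1 := isIso_cmpH f g hM J p
  rw [← homologyComparison_eq] at h1
  have h2 : IsIso (RDer.edgeOut (Scheme.Modules.pushforward f) (Scheme.Modules.pushforward g) p M) := by
    rw [edgeOut_eq (Scheme.Modules.pushforward f) (Scheme.Modules.pushforward g) p J]
    have h3 : IsIso (RDer.homologyComparison (Scheme.Modules.pushforward g)
          (((Scheme.Modules.pushforward f).mapHomologicalComplex (ComplexShape.up ℕ)).obj J.cocomplex) p ≫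
        (Scheme.Modules.pushforward g).map (iso (Scheme.Modules.pushforward f) J p).inv) :=
      @IsIso.comp_isIso _ _ _ _ _ _ _ h1 inferInstance
    exact @IsIso.comp_isIso _ _ _ _ _ _ _ inferInstance h3
  unfold CohBC.lerayEdgeOut
  infer_instance

end K598.LerayAff
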