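import Groth.Agent.Coherent.K54.AcycRes
import Groth.Agent.Sga4h.FunLES

/-!
# The long exact sequence of relative Ext sheaves in the first variable
-/

set_option autoImplicit false
universe u
open CategoryTheory CategoryTheory.Limits AlgebraicGeometry

namespace K598.RelExtLES

open K54.AcycRes K53.LfRes Groth.Agent.Sga4h.FunLES

variable {X Y : Scheme.{u}}

theorem main (f : X ⟶ Y) (S : ShortComplex X.Modules) (hS : S.ShortExact)
    (G : X.Modules)
    [ModSite.HasSheafHom (O := X.sheaf) S.X₁] [ModSite.HasSheafHom (O := X.sheaf) S.X₂] [ModSite.HasSheafHom (O := X.sheaf) S.X₃]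
    [HasInjectiveResolutions (ModSite.Mod X.sheaf)]
    [(ModSite.sheafHom (O := X.sheaf) S.X₁ ⋙ Scheme.Modules.pushforward f).Additive]
    [(ModSite.sheafHom (O := X.sheaf) S.X₂ ⋙ Scheme.Modules.pushforward f).Additive]
    [(ModSite.sheafHom (O := X.sheaf) S.X₃ ⋙ Scheme.Modules.pushforward f).Additive] :
    Mono ((NatTrans.rightDerived (Functor.whiskerRight (ExtSupp.sheafHomMap (O := X.sheaf) S.g) (Scheme.Modules.pushforward f)) 0).app G) ∧
    (∀ p : ℕ, ∃ w : (NatTrans.rightDerived (Functor.whiskerRight (ExtSupp.sheafHomMap (O := X.sheaf) S.g) (Scheme.Modules.pushforward f)) p).app G ≫ (NatTrans.rightDerived (Functor.whiskerRight (ExtSupp.sheafHomMap (O := X.sheaf) S.f) (Scheme.Modules.pushforward f)) p).app G = 0,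
      (ShortComplex.mk _ _ w).Exact) ∧
    ∃ δ : ∀ p : ℕ, ((ModSite.sheafHom (O := X.sheaf) S.X₁ ⋙ Scheme.Modules.pushforward f).rightDerived p).obj G ⟶ ((ModSite.sheafHom (O := X.sheaf) S.X₃ ⋙ Scheme.Modules.pushforward f).rightDerived (p + 1)).obj G,
      ∀ p : ℕ,
        (∃ w : (NatTrans.rightDerived (Functor.whiskerRight (ExtSupp.sheafHomMap (O := X.sheaf) S.f) (Scheme.Modules.pushforward f)) p).app G ≫ δ p = 0, (ShortComplex.mk _ _ w).Exact) ∧
        (∃ w : δ p ≫ (NatTrans.rightDerived (Functor.whiskerRight (ExtSupp.sheafHomMap (O := X.sheaf) S.g) (Scheme.Modules.pushforward f)) (p + 1)).app G = 0, (ShortComplex.mk _ _ w).Exact) := by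
  have i0 : ∀ M : X.Modules, ((DCoh.tensorBi (X := X)).flip.obj M).IsLeftAdjoint := K53.LfResMod.hasSheafHom
  have i1 : ∀ N : X.Modules, PreservesFiniteColimits ((DCoh.tensorBi (X := X)).obj N) := K53.LfResMod.pfc
  have i2 : ∀ M : X.Modules, ((DCoh.tensorBi (X := X)).flip.obj M).Additive := K53.LfResMod.flipAdd
  have i3 : HasInjectiveResolutions X.Modules := ‹HasInjectiveResolutions (ModSite.Mod X.sheaf)›
  let T := DCoh.tensorBi (X := X)
  let P := Scheme.Modules.pushforward f
  have w : ∀ M : X.Modules, (Rm T P S.g).app M ≫ (Rm T P S.f).app M = 0 := fun M => Rm_comp_zero T P _ _ S.zero M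
  have h : ∀ I : X.Modules, Injective I →
      (ShortComplex.mk ((Rm T P S.g).app I) ((Rm T P S.f).app I) (w I)).ShortExact := fun I hI =>
    shortExact_Rm T P K53.LfResMod.flatCover
      (fun S M I hI hS h => Groth.Agent.PerfC.FlasquePush.map_shortExact f hS (by
        rw [h]
        exact isFlasqueMod_ho M I)) hS I hI
  refine ⟨?_, fun p => ⟨_, exact₂ (Rm T P S.g) (Rm T P S.f) w h G p⟩, δ (Rm T P S.g) (Rm T P S.f) w h G, fun p =>
    ⟨⟨_, exact₃ (Rm T P S.g) (Rm T P S.f) w h G p⟩, ⟨_, exact₁ (Rm T P S.g) (Rm T P S.f) w h G p⟩⟩⟩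
  have := hS.epi_g
  have hm : Mono ((Rm T P S.g).app G) := mono_Rm T P S.g G
  have p1 : PreservesFiniteLimits (Ro T P S.X₃) := inferInstance
  have p2 : PreservesFiniteLimits (Ro T P S.X₂) := inferInstance
  have e := toZero_naturality (Rm T P S.g) G
  have e2 : (NatTrans.rightDerived (Rm T P S.g) 0).app G =
      inv ((Ro T P S.X₃).toRightDerivedZero.app G) ≫ (Rm T P S.g).app G ≫ (Ro T P S.X₂).toRightDerivedZero.app G := by
    rw [e, IsIso.inv_hom_id_assoc]
  change Mono ((NatTrans.rightDerived (Rm T P S.g) 0).app G)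
  rw [e2]
  infer_instance

end K598.RelExtLES
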